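import Groth.Agent.Quiet5.Tower
import Groth.Prelude.Def_Frob
import Mathlib.AlgebraicGeometry.Morphisms.Etale

/-!
# Composition of quasi-étale morphisms and their lifting along thickenings
-/

universe u

open CategoryTheory Limits AlgebraicGeometry Quiet

namespace Groth.Agent.Quiet5

variable {p : ℕ} [hp : Fact p.Prime]

theorem isRootTower_restrict {X Y : Scheme.{u}} (r : Y ⟶ X) (U : X.affineOpens) (hU : IsAffineOpen (r ⁻¹ᵁ U.1))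
    (n : ℕ) (hT : letI := (r.app U.1).hom.toAlgebra; IsRootTower p n Γ(X, U.1) Γ(Y, r ⁻¹ᵁ U.1))
    (O : X.Opens) (hO : IsAffineOpen O) (hOU : O ≤ U.1) :
    IsAffineOpen (r ⁻¹ᵁ O) ∧ (letI := (r.app O).hom.toAlgebra; IsRootTower p n Γ(X, O) Γ(Y, r ⁻¹ᵁ O)) := by
  have H : IsPullback (𝟙 Y) r r (𝟙 X) := IsPullback.of_horiz_isIso ⟨by simp⟩
  have hW : r ⁻¹ᵁ O = (𝟙 Y : Y ⟶ Y) ⁻¹ᵁ (r ⁻¹ᵁ U.1) ⊓ r ⁻¹ᵁ O :=
    (inf_eq_right.2 fun y hy => hOU hy).symm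
  have haff : IsAffineOpen (r ⁻¹ᵁ O) := by
    haveI : IsAffine _ := U.2
    haveI : IsAffine _ := hU
    haveI : IsAffine _ := hO
    exact .of_isIso (Scheme.Hom.isPullback_resLE H hOU le_rfl hW).isoPullback.hom
  refine ⟨haff, ?_⟩
  have hpo := (isIso_pushoutSection_iff H hOU le_rfl hW).mp
    (isIso_pushoutSection_of_isAffineOpen H hOU le_rfl hW U.2 hO hU)
  have := isRootTower_baseChange p n _ _ _ _ hpo (by rw [← Scheme.Hom.app_eq_appLE]; exact hT)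
  rw [← Scheme.Hom.app_eq_appLE] at this
  exact this

/-- A single tower followed by a root morphism. -/
theorem isPthRoot_comp_SpecMap {C₀ C : CommRingCat.{u}} (θ : C₀ ⟶ C) (n : ℕ) (h0 : (p : C₀) = 0)
    (hT : letI := θ.hom.toAlgebra; IsRootTower p n C₀ C) {W : Scheme.{u}} (r : W ⟶ Spec C) (hr : IsPthRoot p r) :
    IsPthRoot p (r ≫ Spec.map θ) := by
  set q := Spec.map θ
  letI := θ.hom.toAlgebra
  obtain ⟨hinj, hpow⟩ := injective_and_exists_pow p n C₀ C h0 hT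
  intro x
  haveI : Nontrivial C₀ := PrimeSpectrum.nonempty_iff_nontrivial.1 ⟨x⟩
  haveI : CharP C₀ p := (CharP.charP_iff_prime_eq_zero hp.out).2 h0
  have hsurj : Function.Surjective q := by
    intro z
    haveI : Algebra.IsIntegral C₀ C := ⟨fun c => by
      obtain ⟨a, ha⟩ := hpow c
      exact IsIntegral.of_pow (pow_pos hp.out.pos n) (ha ▸ isIntegral_algebraMap)⟩
    haveI : FaithfulSMul C₀ C := (faithfulSMul_iff_algebraMap_injective _ _).2 hinj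
    exact Algebra.IsIntegral.comap_surjective C₀ C z
  obtain ⟨y, hy⟩ := hsurj x
  obtain ⟨U, hyU, hU', m, hTm⟩ := hr y
  obtain ⟨_, ⟨_, ⟨c, rfl⟩, rfl⟩, hyc, hcU⟩ :=
    PrimeSpectrum.isBasis_basic_opens.exists_subset_of_mem_open hyU U.1.2
  obtain ⟨c₀, hc₀⟩ := hpow c
  have hmem : ∀ z : Spec C, θ c₀ ∉ z.asIdeal ↔ c ∉ z.asIdeal := fun z =>
    not_congr (by
      rw [show θ c₀ = c ^ p ^ n from hc₀]
      exact z.isPrime.pow_mem_iff_mem _ (pow_pos hp.out.pos n))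
  let O : (Spec C₀).Opens := PrimeSpectrum.basicOpen c₀
  have hxO : x ∈ O := by
    rw [← hy]
    exact (hmem y).2 hyc
  have hO : IsAffineOpen O := IsAffineOpen.Spec_basicOpen c₀
  have hqU : q ⁻¹ᵁ O ≤ U.1 := fun z hz => hcU ((hmem z).1 hz)
  have hTtop : letI := (q.app ⊤).hom.toAlgebra; IsRootTower p n Γ(Spec C₀, ⊤) Γ(Spec C, q ⁻¹ᵁ ⊤) := by
    refine isRootTower_of_iso p n θ (q.app ⊤) (Scheme.ΓSpecIso C₀).symm (Scheme.ΓSpecIso C).symm ?_ hT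
    exact (Scheme.ΓSpecIso_inv_naturality θ)
  obtain ⟨hqO, hTn⟩ := isRootTower_restrict q ⟨⊤, isAffineOpen_top _⟩ (isAffineOpen_top _) n hTtop O hO le_top
  obtain ⟨hrO, hTm'⟩ := isRootTower_restrict r U hU' m hTm (q ⁻¹ᵁ O) hqO hqU
  refine ⟨⟨O, hO⟩, hxO, hrO, ?_⟩
  letI : Algebra Γ(Spec C₀, O) Γ(Spec C, q ⁻¹ᵁ O) := (q.app O).hom.toAlgebra
  letI : Algebra Γ(Spec C, q ⁻¹ᵁ O) Γ(W, r ⁻¹ᵁ (q ⁻¹ᵁ O)) := (r.app (q ⁻¹ᵁ O)).hom.toAlgebra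
  letI alg3 : Algebra Γ(Spec C₀, O) Γ(W, r ⁻¹ᵁ (q ⁻¹ᵁ O)) := ((r ≫ q).app O).hom.toAlgebra
  haveI : IsScalarTower Γ(Spec C₀, O) Γ(Spec C, q ⁻¹ᵁ O) Γ(W, r ⁻¹ᵁ (q ⁻¹ᵁ O)) :=
    IsScalarTower.of_algebraMap_eq fun a => congr($(Scheme.Hom.comp_app r q O).hom a)
  exact ⟨n + m, isRootTower_trans p n m Γ(Spec C₀, O) Γ(Spec C, q ⁻¹ᵁ O) Γ(W, r ⁻¹ᵁ (q ⁻¹ᵁ O)) hTn hTm'⟩

theorem natCast_eq_zero_opens {X : Scheme.{u}} [h : FrobSch.IsCharP X p] (U : X.Opens) : (p : Γ(X, U)) = 0 := by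
  rw [← map_natCast (X.presheaf.map (homOfLE (le_top : U ≤ ⊤)).op).hom p, h.natCast_eq_zero, map_zero]

theorem isPthRoot_iso_comp {Y Y' X : Scheme.{u}} (e : Y' ⟶ Y) [IsIso e] {r : Y ⟶ X} (h : IsPthRoot p r) :
    IsPthRoot p (e ≫ r) :=
  isPthRoot_of_isPullback (r' := e ≫ r) (k := 𝟙 X) (g' := e) (IsPullback.of_horiz_isIso ⟨by simp⟩) h

theorem isQuiet_comp {X Y Z : Scheme.{u}} [FrobSch.IsCharP X p] (f : Y ⟶ X) (g : Z ⟶ Y) (hf : IsQuiet p f)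
    (hg : IsQuiet p g) : IsQuiet p (g ≫ f) := by
  intro z
  obtain ⟨W, Y2, r2, e2, hzW, hr2, he2, hre2⟩ := hg z
  obtain ⟨V, Y1, r1, e1, hyV, hr1, he1, hre1⟩ := hf (g z)
  obtain ⟨U1, hyU1, hU1', n, hT⟩ := hr1 (r1 ⟨g z, hyV⟩)
  set A := Γ(Y1, U1.1)
  set B := Γ(V.toScheme, r1 ⁻¹ᵁ U1.1)
  let b : Spec B ⟶ Y := hU1'.fromSpec ≫ V.ι
  have hb : g z ∈ b.opensRange := by
    obtain ⟨s, hs⟩ : (⟨g z, hyV⟩ : V.toScheme) ∈ hU1'.fromSpec.opensRange := by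
      rw [IsAffineOpen.opensRange_fromSpec]; exact hyU1
    exact ⟨s, by rw [Scheme.Hom.comp_apply, hs]; rfl⟩
  let z2 : Y2 := r2 ⟨z, hzW⟩
  have hz2 : z2 ∈ e2 ⁻¹ᵁ b.opensRange := by
    show e2 (r2 ⟨z, hzW⟩) ∈ b.opensRange
    rw [← Scheme.Hom.comp_apply, hre2]
    exact hb
  obtain ⟨Cp, hCp, hzCp, hCpb⟩ := exists_isAffineOpen_mem_and_subset (x := z2) (U := e2 ⁻¹ᵁ b.opensRange) hz2
  set C := Γ(Y2, Cp)
  have hrange : Set.range (hCp.fromSpec ≫ e2) ⊆ Set.range b := by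
    rintro _ ⟨s, rfl⟩
    rw [Scheme.Hom.comp_apply]
    exact hCpb (hCp.range_fromSpec.le ⟨s, rfl⟩)
  let ec : Spec C ⟶ Spec B := IsOpenImmersion.lift b (hCp.fromSpec ≫ e2) hrange
  have hec : ec ≫ b = hCp.fromSpec ≫ e2 := IsOpenImmersion.lift_fac _ _ _
  haveI : Etale (ec ≫ b) := by rw [hec]; infer_instance
  haveI : Etale ec := Etale.of_comp ec b
  obtain ⟨φ, hφ⟩ : ∃ φ, Spec.map φ = ec := ⟨Spec.preimage ec, Spec.map_preimage ec⟩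
  have hφet : φ.hom.Etale := by
    rw [← HasRingHomProperty.Spec_iff (P := @Etale)]
    rw [hφ]; infer_instance
  haveI : Nontrivial C := PrimeSpectrum.nonempty_iff_nontrivial.1 ⟨hCp.isoSpec.hom ⟨z2, hzCp⟩⟩
  haveI : FrobSch.IsCharP Y1 p := FrobSch.IsCharP.of_hom e1 p
  have h0 : (p : A) = 0 := natCast_eq_zero_opens U1.1
  obtain ⟨C₀, ψ, θ, hψ, hpush⟩ := exists_descent p (r1.app U1.1) φ hφet n hT h0
  have hTθ := isRootTower_baseChange p n _ _ _ _ hpush hT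
  have h00 : (p : C₀) = 0 := by rw [← map_natCast ψ.hom, h0, map_zero]
  let W' := r2 ⁻¹ᵁ Cp
  let r2' : W'.toScheme ⟶ Spec C := (r2 ∣_ Cp) ≫ hCp.isoSpec.hom
  have hr2' : IsPthRoot p r2' := by
    refine isPthRoot_of_isPullback (g' := W'.ι) (k := hCp.isoSpec.inv ≫ Cp.ι) ?_ hr2
    exact (isPullback_morphismRestrict r2 Cp).flip.of_iso (Iso.refl _) (Iso.refl _) hCp.isoSpec (Iso.refl _)
      (by simp [W']) (by simp [r2']) (by simp) (by simp)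
  let V0 : Z.Opens := W.ι ''ᵁ W'
  let e0 : V0.toScheme ⟶ W'.toScheme := (W.ι.isoImage W').inv
  refine ⟨V0, Spec C₀, e0 ≫ r2' ≫ Spec.map θ, Spec.map ψ ≫ U1.2.fromSpec ≫ e1, ⟨⟨z, hzW⟩, hzCp, rfl⟩, ?_, ?_, ?_⟩
  · exact isPthRoot_iso_comp e0 (isPthRoot_comp_SpecMap θ n h00 hTθ r2' hr2')
  · haveI : Etale (Spec.map ψ) := (HasRingHomProperty.Spec_iff (P := @Etale)).2 hψ
    infer_instance
  · have h1 : Spec.map (r1.app U1.1) ≫ U1.2.fromSpec = hU1'.fromSpec ≫ r1 := by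
      rw [Scheme.Hom.app_eq_appLE, IsAffineOpen.SpecMap_appLE_fromSpec]
    have h2 : Spec.map θ ≫ Spec.map ψ = Spec.map φ ≫ Spec.map (r1.app U1.1) := by
      rw [← Spec.map_comp, ← Spec.map_comp, hpush.w]
    have h3 : e0 ≫ W'.ι ≫ W.ι = V0.ι := Scheme.Hom.isoImage_inv_ι W.ι W'
    simp only [Category.assoc]
    rw [reassoc_of% h2, reassoc_of% h1, hre1, hφ]
    rw [show ec ≫ hU1'.fromSpec ≫ V.ι ≫ f = hCp.fromSpec ≫ e2 ≫ f by rw [← reassoc_of% hec]; simp [b]]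
    simp only [r2', Category.assoc, IsAffineOpen.fromSpec, Iso.hom_inv_id_assoc]
    rw [morphismRestrict_ι_assoc, reassoc_of% hre2, ← reassoc_of% h3]

theorem exists_lift {T U U' : Scheme.{u}} (i : U ⟶ T) [IsClosedImmersion i] (f' : U' ⟶ U)
    (hf' : IsQuiet p f') (u : U') :
    ∃ (V : U'.Opens) (T' : Scheme.{u}) (q : T' ⟶ T) (j : (V : Scheme.{u}) ⟶ T'),
      u ∈ V ∧ IsQuiet p q ∧ IsPullback j (V.ι ≫ f') q i := by
  obtain ⟨V, Y', r, e, huV, hr, he, hre⟩ := hf' u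
  let y := r ⟨u, huV⟩
  obtain ⟨T0, hT0, htT0, -⟩ := exists_isAffineOpen_mem_and_subset (x := i (e y)) (U := ⊤) trivial
  have hU0 : IsAffineOpen (i ⁻¹ᵁ T0) := hT0.preimage i
  have hsurj : Function.Surjective (i.app T0) := i.app_surjective T0 hT0
  obtain ⟨U1, hyU1, hU1', n, hT⟩ := hr y
  obtain ⟨O, hO, hyO, hOsub⟩ := exists_isAffineOpen_mem_and_subset (x := y) (U := U1.1 ⊓ e ⁻¹ᵁ (i ⁻¹ᵁ T0))
    ⟨hyU1, htT0⟩
  have hOe : O ≤ e ⁻¹ᵁ (i ⁻¹ᵁ T0) := fun z hz => (hOsub hz).2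
  obtain ⟨hrO, hTO⟩ := isRootTower_restrict r U1 hU1' n hT O hO (fun z hz => (hOsub hz).1)
  have het : (e.appLE (i ⁻¹ᵁ T0) O hOe).hom.Etale :=
    HasRingHomProperty.appLE (P := @Etale) e inferInstance ⟨_, hU0⟩ ⟨O, hO⟩ hOe
  obtain ⟨R', ψ, π, hψ, hpo, hπ⟩ := exists_etale_lift (i.app T0) hsurj _ het
  obtain ⟨B', γ, π', hγ, hpo'⟩ := exists_lift_tower p n π (r.app O) hπ hTO
  have hpo2 : IsPushout (ψ ≫ γ) (i.app T0) π' (e.appLE (i ⁻¹ᵁ T0) O hOe ≫ r.app O) :=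
    hpo.flip.paste_horiz hpo'
  let V0 : U'.Opens := V.ι ''ᵁ (r ⁻¹ᵁ O)
  let σ : V0.toScheme ⟶ Spec Γ(V.toScheme, r ⁻¹ᵁ O) := (V.ι.isoImage (r ⁻¹ᵁ O)).inv ≫ hrO.isoSpec.hom
  let q : Spec B' ⟶ T := Spec.map (ψ ≫ γ) ≫ hT0.fromSpec
  have hsq : IsPullback hU0.fromSpec (Spec.map (i.app T0)) i hT0.fromSpec := by
    have := isPullback_morphismRestrict i T0
    refine this.flip.of_iso hU0.isoSpec (Iso.refl _) hT0.isoSpec (Iso.refl _) ?_ ?_ ?_ ?_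
    · simp
    · rw [← cancel_mono hT0.fromSpec]
      have h := IsAffineOpen.SpecMap_appLE_fromSpec i hT0 hU0 le_rfl
      rw [← Scheme.Hom.app_eq_appLE] at h
      rw [Category.assoc, Category.assoc, h]
      simp
    · simp
    · simp
  refine ⟨V0, Spec B', q, σ ≫ Spec.map π', ⟨⟨u, huV⟩, hyO, rfl⟩, ?_, ?_⟩
  · intro s
    refine ⟨⊤, Spec R', (Spec B').topIso.hom ≫ Spec.map γ, Spec.map ψ ≫ hT0.fromSpec, trivial, ?_, ?_, ?_⟩
    · refine isPthRoot_iso_comp _ ?_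
      have hq : IsPthRoot p (Spec.map γ) := by
        intro x
        refine ⟨⟨⊤, isAffineOpen_top _⟩, trivial, isAffineOpen_top _, n, ?_⟩
        exact isRootTower_of_iso p n γ ((Spec.map γ).app ⊤) (Scheme.ΓSpecIso R').symm (Scheme.ΓSpecIso B').symm
          (Scheme.ΓSpecIso_inv_naturality γ) hγ
      exact hq
    · haveI : Etale (Spec.map ψ) := (HasRingHomProperty.Spec_iff (P := @Etale)).2 hψ
      infer_instance
    · simp [q, Spec.map_comp, Scheme.topIso_hom]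
  · have hA := (isPullback_SpecMap_of_isPushout _ _ _ _ hpo2).flip
    have hB := hsq.flip
    have hP := hA.flip.paste_vert hB
    have heq : σ ≫ Spec.map (e.appLE (i ⁻¹ᵁ T0) O hOe ≫ r.app O) ≫ hU0.fromSpec = V0.ι ≫ f' := by
      simp only [σ, Spec.map_comp, Category.assoc]
      rw [IsAffineOpen.SpecMap_appLE_fromSpec e hU0 hO hOe, Scheme.Hom.app_eq_appLE,
        ← Category.assoc (Spec.map (r.appLE O (r ⁻¹ᵁ O) le_rfl)), IsAffineOpen.SpecMap_appLE_fromSpec r hO hrO,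
        Category.assoc, hre]
      simp only [IsAffineOpen.fromSpec, Category.assoc, Iso.hom_inv_id_assoc]
      rw [← Category.assoc (r ⁻¹ᵁ O).ι, ← Category.assoc, Scheme.Hom.isoImage_inv_ι V.ι (r ⁻¹ᵁ O)]
    exact hP.of_iso (asIso σ).symm (Iso.refl _) (Iso.refl _) (Iso.refl _)
      (by simp) (by simp [← heq]) (by simp [q]) (by simp)

end Groth.Agent.Quiet5
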