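import Groth.Agent.Quiet5.BC
import Groth.Agent.FrobSmoothLib.Global
import Mathlib.RingTheory.RingHom.FaithfullyFlat

/-!
# Frobenius on smooth algebras over perfect fields is a tower of root extractions
-/

universe u

open CategoryTheory AlgebraicGeometry Polynomial TensorProduct FrobAlg

namespace Groth.Agent.Quiet5

open Quiet

theorem root_pow (p : ℕ) {A : Type u} [CommRing A] (a : A) :
    (AdjoinRoot.root (X ^ p - C a : A[X])) ^ p = AdjoinRoot.of _ a := by
  have := AdjoinRoot.eval₂_root (X ^ p - C a : A[X])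
  rw [eval₂_sub, eval₂_pow, eval₂_X, eval₂_C] at this
  exact sub_eq_zero.1 this

theorem bijective_rootSum (p : ℕ) (hp : p ≠ 0) {A : Type u} [CommRing A] (a : A) :
    Function.Bijective fun v : Fin p → A =>
      ∑ d, AdjoinRoot.of (X ^ p - C a) (v d) * AdjoinRoot.root (X ^ p - C a) ^ (d : ℕ) := by
  rcases subsingleton_or_nontrivial A with h | h
  · haveI : Subsingleton (RootRing p A a) := (algebraMap A (RootRing p A a)).codomain_trivial
    exact ⟨fun x y _ => Subsingleton.elim _ _, fun c => ⟨0, Subsingleton.elim _ _⟩⟩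
  let pb := AdjoinRoot.powerBasis' (monic_X_pow_sub_C a hp)
  have hd : pb.dim = p := natDegree_X_pow_sub_C
  let bas := pb.basis.reindex (finCongr hd)
  have : ⇑bas.equivFun.symm = fun v : Fin p → A =>
      ∑ d, AdjoinRoot.of (X ^ p - C a) (v d) * AdjoinRoot.root (X ^ p - C a) ^ (d : ℕ) := by
    funext v
    rw [Module.Basis.equivFun_symm_apply]
    refine Finset.sum_congr rfl fun d _ => ?_
    rw [Module.Basis.reindex_apply, PowerBasis.basis_eq_pow, Algebra.smul_def]
    rfl
  rw [← this]
  exact bas.equivFun.symm.bijective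

/-- A ring with monomial basis in `p`-th roots is a root tower. -/
theorem isRootTower_of_bijective (p : ℕ) (hp : p ≠ 0) : ∀ (n : ℕ) (A B : Type u) [CommRing A] [CommRing B]
    [Algebra A B] (a : Fin n → A) (y : Fin n → B), (∀ i, y i ^ p = algebraMap A B (a i)) →
    Function.Bijective (fun v : (Fin n → Fin p) → A => ∑ e, algebraMap A B (v e) * ∏ i, y i ^ (e i : ℕ)) →
    IsRootTower p n A B
  | 0, A, B, _, _, _, a, y, _, hb => by
    have : Function.Bijective (algebraMap A B) := by
      refine ⟨fun x z h => ?_, fun c => ?_⟩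
      · have := @hb.1 (fun _ => x) (fun _ => z) (by simpa using h)
        exact congrFun this Fin.elim0
      · obtain ⟨v, hv⟩ := hb.2 c
        exact ⟨v default, by simpa using hv⟩
    exact ⟨(AlgEquiv.ofBijective (Algebra.ofId A B) this).symm⟩
  | n + 1, A, B, _, _, _, a, y, hy, hb => by
    let j : RootRing p A (a 0) →+* B := AdjoinRoot.lift (algebraMap A B) (y 0) (by
      rw [eval₂_sub, eval₂_pow, eval₂_X, eval₂_C, hy 0]; exact sub_self _)
    have hjof : ∀ x, j (AdjoinRoot.of _ x) = algebraMap A B x := fun x => AdjoinRoot.lift_of _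
    have hjroot : j (AdjoinRoot.root _) = y 0 := AdjoinRoot.lift_root _
    letI := j.toAlgebra
    refine ⟨a 0, j.toAlgebra, IsScalarTower.of_algebraMap_eq fun x => (hjof x).symm, ?_⟩
    refine isRootTower_of_bijective p hp n (RootRing p A (a 0)) B
      (fun i => AdjoinRoot.of _ (a i.succ)) (fun i => y i.succ) (fun i => by
        rw [hy, RingHom.algebraMap_toAlgebra, hjof]) ?_
    let L : ((Fin (n + 1) → Fin p) → A) → ((Fin n → Fin p) → RootRing p A (a 0)) := fun v e =>
      ∑ d, AdjoinRoot.of _ (v (Fin.cons d e)) * AdjoinRoot.root _ ^ (d : ℕ)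
    have hL : Function.Bijective L := by
      have h0 := bijective_rootSum p hp (a 0)
      refine ⟨fun v w h => funext fun f => ?_, fun w => ?_⟩
      · have := h0.1 (congrFun h (Fin.tail f))
        simpa [Fin.cons_self_tail] using congrFun this (f 0)
      · choose v hv using fun e => h0.2 (w e)
        refine ⟨fun f => v (Fin.tail f) (f 0), funext fun e => ?_⟩
        simpa [L] using hv e
    refine (Function.Bijective.of_comp_iff _ hL).1 ?_
    refine (congrArg Function.Bijective (funext fun v => ?_)).mp hb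
    simp only [Function.comp, L, RingHom.algebraMap_toAlgebra, map_sum, map_mul, map_pow, hjof, hjroot,
      Finset.sum_mul]
    rw [← (Fin.consEquiv fun _ : Fin (n + 1) => Fin p).sum_comp, Fintype.sum_prod_type, Finset.sum_comm]
    refine Finset.sum_congr rfl fun e _ => Finset.sum_congr rfl fun d _ => ?_
    simp [Fin.consEquiv, Fin.prod_univ_succ, mul_assoc]

variable (p : ℕ) [Fact p.Prime] (k : Type u) [Field k] [CharP k p] [PerfectRing k p]

theorem bijective_includeLeft (C : Type u) [CommRing C] [Algebra k C] :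
    Function.Bijective fun c : C => (c ⊗ₜ[k] (1 : Twist p k)) := by
  have h : Function.Bijective (algebraMap k (Twist p k)) := (toTwist p k).bijective.comp (bijective_frobenius k p)
  let e : k ≃ₐ[k] Twist p k := AlgEquiv.ofBijective (Algebra.ofId k (Twist p k)) h
  have : ∀ c : C, (c ⊗ₜ[k] (1 : Twist p k)) = TensorProduct.congr (LinearEquiv.refl k C) e.toLinearEquiv
      ((TensorProduct.rid k C).symm c) := fun c => by simp
  rw [funext this]
  exact (TensorProduct.congr _ _).bijective.comp (TensorProduct.rid k C).symm.bijective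

theorem exists_isRootTower_frobenius (C : Type u) [CommRing C] [Algebra k C] [CharP C p] [Nontrivial C]
    [Algebra.IsStandardSmooth k C] :
    letI := (frobenius C p).toAlgebra
    ∃ n, IsRootTower p n C C := by
  obtain ⟨n, hn⟩ := FrobSmoothLib.exists_relativeDimension (A := k) (C := C)
  obtain ⟨g, hg⟩ := Algebra.IsStandardSmoothOfRelativeDimension.exists_etale_mvPolynomial (n := n) k C
  have hb := FrobSmoothLib.bijective_linearCombination (p := p) g hg
  letI := (frobenius C p).toAlgebra
  refine ⟨n, isRootTower_of_bijective p (Fact.out : p.Prime).ne_zero n C C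
    (fun i => g (MvPolynomial.X i)) (fun i => g (MvPolynomial.X i)) (fun i => rfl) ?_⟩
  have hι := bijective_includeLeft p k C
  have hmon : ∀ r : Fin n → Fin p, g (MvPolynomial.monomial (FrobSmoothLib.ofRem r) 1) =
      ∏ i, g (MvPolynomial.X i) ^ (r i : ℕ) := fun r => by
    rw [MvPolynomial.monomial_eq, map_one, one_mul, Finsupp.prod_fintype _ _ (fun i => pow_zero _), map_prod]
    simp [FrobSmoothLib.ofRem, map_pow]
  refine (congrArg Function.Bijective (funext fun v => ?_)).mp (hb.comp (hι.comp_left (α := Fin n → Fin p)))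
  letI := (relFrob p k C).toAlgebra
  simp only [Function.comp, Fintype.linearCombination_apply, Algebra.smul_def, hmon]
  refine Finset.sum_congr rfl fun r _ => ?_
  congr 1
  change relFrob p k C (v r ⊗ₜ[k] (1 : Twist p k)) = v r ^ p
  rw [PerfLib.relFrob_tmul, map_one, map_one, mul_one]

theorem flat_frobenius (A : Type u) [CommRing A] [Algebra k A] [CharP A p] [Algebra.Smooth k A] :
    (frobenius A p).Flat := by
  let i : A →+* BaseChange p k A := Algebra.TensorProduct.includeLeftRingHom
  have hi : i.Flat := RingHom.Flat.of_bijective (bijective_includeLeft p k A)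
  have := hi.comp (FrobSmoothLib.flat_relFrob_any (p := p) (A := k) (B := A))
  convert this using 1
  ext c
  change c ^ p = relFrob p k A (c ⊗ₜ[k] (1 : Twist p k))
  rw [PerfLib.relFrob_tmul, map_one, map_one, mul_one]

theorem faithfullyFlat_frobenius (A : Type u) [CommRing A] [Algebra k A] [CharP A p] [Algebra.Smooth k A] :
    (frobenius A p).FaithfullyFlat := by
  refine RingHom.FaithfullyFlat.iff_flat_and_comap_surjective.2 ⟨flat_frobenius p k A, fun x => ⟨x, ?_⟩⟩
  refine PrimeSpectrum.ext (Ideal.ext fun a => ?_)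
  change a ^ p ∈ x.asIdeal ↔ _
  exact x.isPrime.pow_mem_iff_mem p (Fact.out : p.Prime).pos

/-- Transport of a root tower along isomorphisms. -/
theorem isRootTower_of_iso (q : ℕ) (n : ℕ) {A B A' B' : CommRingCat.{u}} (f : A ⟶ B) (f' : A' ⟶ B')
    (eA : A ≅ A') (eB : B ≅ B') (h : f ≫ eB.hom = eA.hom ≫ f')
    (hT : letI := f.hom.toAlgebra; IsRootTower q n A B) :
    letI := f'.hom.toAlgebra
    IsRootTower q n A' B' :=
  isRootTower_baseChange q n f eA.hom eB.hom f' (IsPushout.of_vert_isIso ⟨h⟩) hT

theorem isPthRoot_frobenius (A : CommRingCat.{u}) [Algebra k A] [CharP A p] [Algebra.Smooth k A] :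
    IsPthRoot p (Spec.map (CommRingCat.ofHom (frobenius A p) : A ⟶ A)) := by
  have hp := (Fact.out : p.Prime).pos
  obtain ⟨s, hs, hstd⟩ := Algebra.Smooth.exists_span_eq_top_isStandardSmooth k A
  intro x
  obtain ⟨b, hbs, hbx⟩ : ∃ b ∈ s, b ∉ x.asIdeal := by
    by_contra h; push_neg at h
    exact x.isPrime.ne_top (top_le_iff.1 (hs ▸ Ideal.span_le.2 h))
  haveI : Algebra.IsStandardSmooth k (Localization.Away b) := hstd b hbs
  set f := Spec.map (CommRingCat.ofHom (frobenius A p) : A ⟶ A)
  refine ⟨⟨PrimeSpectrum.basicOpen b, IsAffineOpen.Spec_basicOpen b⟩, hbx, ?_⟩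
  have hpre : f ⁻¹ᵁ PrimeSpectrum.basicOpen b = PrimeSpectrum.basicOpen b := by
    refine TopologicalSpace.Opens.ext (Set.ext fun z => ?_)
    change b ^ p ∉ z.asIdeal ↔ b ∉ z.asIdeal
    exact not_congr (z.isPrime.pow_mem_iff_mem p hp)
  refine ⟨hpre.symm ▸ IsAffineOpen.Spec_basicOpen b, ?_⟩
  haveI : Nontrivial (Localization.Away b) := by
    refine ⟨0, 1, fun h => ?_⟩
    rw [eq_comm, ← map_one (algebraMap A (Localization.Away b)), IsLocalization.map_eq_zero_iff
      (Submonoid.powers b)] at h
    obtain ⟨⟨_, m, rfl⟩, hm⟩ := h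
    have hm' : b ^ m = 0 := by simpa using hm
    exact hbx (x.isPrime.mem_of_pow_mem m (hm' ▸ x.asIdeal.zero_mem))
  haveI := FrobSmoothLib.charP_away (p := p) (A := k) b
  obtain ⟨n, hn⟩ := exists_isRootTower_frobenius p k (Localization.Away b)
  refine ⟨n, ?_⟩
  let U : (Spec A).Opens := PrimeSpectrum.basicOpen b
  haveI hU : IsLocalization.Away b Γ(Spec A, U) :=
    inferInstanceAs (IsLocalization.Away b Γ(Spec A, PrimeSpectrum.basicOpen b))
  let V := f ⁻¹ᵁ U
  haveI hV : IsLocalization.Away b Γ(Spec A, V) := by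
    have : ∀ W : (Spec A).Opens, W = U → IsLocalization.Away b Γ(Spec A, W) := by
      rintro W rfl
      exact hU
    exact this V hpre
  let eU := IsLocalization.algEquiv (Submonoid.powers b) (Localization.Away b) Γ(Spec A, U)
  let eV := IsLocalization.algEquiv (Submonoid.powers b) (Localization.Away b) Γ(Spec A, V)
  refine isRootTower_of_iso p n (A := CommRingCat.of (Localization.Away b))
    (B := CommRingCat.of (Localization.Away b)) (CommRingCat.ofHom (frobenius (Localization.Away b) p))
    (f.app U) eU.toRingEquiv.toCommRingCatIso eV.toRingEquiv.toCommRingCatIso ?_ hn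
  refine CommRingCat.hom_ext (IsLocalization.ringHom_ext (Submonoid.powers b) (RingHom.ext fun a => ?_))
  change eV ((algebraMap A (Localization.Away b) a) ^ p) = (f.app U).hom (eU (algebraMap A (Localization.Away b) a))
  rw [← map_pow, AlgEquiv.commutes, AlgEquiv.commutes, IsAffineOpen.algebraMap_Spec_obj, IsAffineOpen.algebraMap_Spec_obj]
  have hnat : CommRingCat.ofHom (frobenius A p) ≫ (Scheme.ΓSpecIso A).inv ≫
      (Spec A).presheaf.map (homOfLE (le_top : V ≤ ⊤)).op =
      ((Scheme.ΓSpecIso A).inv ≫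
      (Spec A).presheaf.map (homOfLE (le_top : U ≤ ⊤)).op) ≫ f.app U := by
    have h := Scheme.ΓSpecIso_inv_naturality (CommRingCat.ofHom (frobenius A p) : A ⟶ A)
    rw [Category.assoc, f.naturality]
    exact congrArg (· ≫ (Spec A).presheaf.map (homOfLE (le_top : V ≤ ⊤)).op) h |>.trans (Category.assoc _ _ _)
  exact congr($(hnat).hom a)

end Groth.Agent.Quiet5
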