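import Groth.Agent.Quiet5.Frob
import Groth.Agent.AlgSpDec.SliceScheme
import Mathlib.RingTheory.Regular.Flat
import Mathlib.RingTheory.Smooth.Basic

/-!
# Frobenius modulo a regular sequence
-/

universe u

open CategoryTheory AlgebraicGeometry RingTheory.Sequence MvPolynomial

namespace Groth.Agent.Quiet5

theorem isRegular_map_of_faithfullyFlat {R S : Type u} [CommRing R] [CommRing S] (f : R →+* S)
    (hf : f.FaithfullyFlat) {rs : List R} (h : IsRegular R rs) : IsRegular S (rs.map f) := by
  letI := f.toAlgebra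
  haveI : Module.FaithfullyFlat R S := hf
  exact IsRegular.of_faithfullyFlat h

theorem faithfullyFlat_quotientMap {R S : Type u} [CommRing R] [CommRing S] (f : R →+* S) (I : Ideal R)
    (hf : f.Flat) (hs : ∀ P : Ideal R, P.IsPrime → I ≤ P → ∃ Q : Ideal S, Q.IsPrime ∧ Q.comap f = P) :
    (Ideal.quotientMap (I.map f) f Ideal.le_comap_map).FaithfullyFlat := by
  refine RingHom.FaithfullyFlat.iff_flat_and_comap_surjective.2 ⟨?_, fun x => ?_⟩
  · exact MorphismProperty.of_isPushout (P := CommRingCat.flat) (AlgSpDec.Slice.isPushout_quotient f I)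
      ((CommRingCat.flat_ofHom_iff f).2 hf)
  · have hI : I ≤ x.asIdeal.comap (Ideal.Quotient.mk I) := fun i hi => by
      rw [Ideal.mem_comap, Ideal.Quotient.eq_zero_iff_mem.2 hi]
      exact zero_mem _
    obtain ⟨Q, hQ, hQc⟩ := hs _ inferInstance hI
    have hle : I.map f ≤ Q := Ideal.map_le_iff_le_comap.2 (hI.trans hQc.ge)
    refine ⟨⟨Q.map (Ideal.Quotient.mk _),
      Ideal.map_isPrime_of_surjective Ideal.Quotient.mk_surjective (by rw [Ideal.mk_ker]; exact hle)⟩, ?_⟩
    refine PrimeSpectrum.ext (Ideal.comap_injective_of_surjective _ (Ideal.Quotient.mk_surjective (I := I)) ?_)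
    change ((Q.map (Ideal.Quotient.mk _)).comap (Ideal.quotientMap (I.map f) f Ideal.le_comap_map)).comap
      (Ideal.Quotient.mk I) = _
    rw [Ideal.comap_comap, Ideal.quotientMap_comp_mk, ← Ideal.comap_comap,
      Ideal.comap_map_of_surjective _ Ideal.Quotient.mk_surjective, ← RingHom.ker_eq_comap_bot, Ideal.mk_ker,
      sup_eq_left.2 hle, hQc]

variable (p : ℕ) [Fact p.Prime] (k : Type u) [Field k] [CharP k p] [PerfectRing k p]
  (A : Type u) [CommRing A] [Algebra k A] [CharP A p] [Algebra.Smooth k A]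

include k in
theorem frobenius_regular_quotient (n : ℕ) (t : Fin n → A) (ht : IsRegular A (List.ofFn t))
    (r m : ℕ) (v : Fin m → MvPolynomial (Fin r) A)
    (hv : IsRegular (MvPolynomial (Fin r) A ⧸ Ideal.span (Set.range fun i => C (t i) ^ p))
      (List.ofFn fun j => Ideal.Quotient.mk (Ideal.span (Set.range fun i => C (t i) ^ p)) (v j))) :
    IsRegular (MvPolynomial (Fin r) A)
        (List.ofFn (fun i => C (t i) ^ (p ^ 2)) ++ List.ofFn (fun j => v j ^ p)) := by
  let P := MvPolynomial (Fin r) A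
  haveI : Algebra.Smooth A P := ⟨inferInstance, inferInstance⟩
  haveI : Algebra.Smooth k P := Algebra.Smooth.comp k A P
  haveI : Nontrivial A := ht.nontrivial
  have h1 := isRegular_map_of_faithfullyFlat _ (faithfullyFlat_frobenius p k A) ht
  have hC : (C : A →+* P).FaithfullyFlat := by
    rw [← MvPolynomial.algebraMap_eq, RingHom.faithfullyFlat_algebraMap_iff]
    infer_instance
  have h2 := isRegular_map_of_faithfullyFlat _ hC h1
  rw [List.map_ofFn, List.map_ofFn] at h2
  set I := Ideal.span (Set.range fun i => (C (t i) : P) ^ p) with hI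
  have hof : Ideal.ofList (List.ofFn (C ∘ frobenius A p ∘ t : Fin n → P)) = I := by
    rw [hI, Ideal.ofList]
    congr 1
    ext a
    simp [Function.comp, frobenius_def, map_pow, List.mem_ofFn']
  have e : ((Ideal.ofList (List.ofFn (C ∘ frobenius A p ∘ t : Fin n → P))) • ⊤ : Submodule P P) = I := by
    rw [hof, Ideal.smul_eq_mul, Ideal.mul_top]
  have hw : IsWeaklyRegular P (List.ofFn (C ∘ frobenius A p ∘ t : Fin n → P) ++ List.ofFn v) := by
    rw [isWeaklyRegular_append_iff]
    refine ⟨h2.toIsWeaklyRegular, ?_⟩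
    rw [(Submodule.quotEquivOfEq _ _ e).isWeaklyRegular_congr,
      ← isWeaklyRegular_map_algebraMap_iff (P ⧸ I)]
    rw [List.map_ofFn]
    exact hv.toIsWeaklyRegular
  have hreg : IsRegular P (List.ofFn (C ∘ frobenius A p ∘ t : Fin n → P) ++ List.ofFn v) := by
    refine ⟨hw, fun htop => hv.top_ne_smul ?_⟩
    rw [Ideal.smul_eq_mul, Ideal.mul_top, Ideal.ofList_append, hof] at htop
    have h := congrArg (Ideal.map (Ideal.Quotient.mk I)) htop
    rw [Ideal.map_sup, Ideal.map_quotient_self, bot_sup_eq, Ideal.map_top, Ideal.map_ofList, List.map_ofFn] at h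
    rw [Ideal.smul_eq_mul, Ideal.mul_top]
    exact h
  have h3 := isRegular_map_of_faithfullyFlat _ (faithfullyFlat_frobenius p k P) hreg
  rw [List.map_append, List.map_ofFn, List.map_ofFn] at h3
  have e1 : (fun i => (C (t i) : P) ^ p ^ 2) = frobenius P p ∘ C ∘ frobenius A p ∘ t := funext fun i => by
    change _ = frobenius P p (C (frobenius A p (t i)))
    rw [frobenius_def, frobenius_def, map_pow, ← pow_mul, sq]
  have e2 : (fun j => v j ^ p) = frobenius P p ∘ v := funext fun j => (frobenius_def p (v j)).symm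
  rw [e1, e2]
  exact h3

include k in
theorem faithfullyFlat_and_isPthRoot_quotient (r : ℕ) (I : Ideal (MvPolynomial (Fin r) A)) :
    (Ideal.quotientMap (I.map (frobenius (MvPolynomial (Fin r) A) p)) (frobenius (MvPolynomial (Fin r) A) p)
        Ideal.le_comap_map).FaithfullyFlat ∧
      Quiet.IsPthRoot p (Spec.map (CommRingCat.ofHom (Ideal.quotientMap
        (I.map (frobenius (MvPolynomial (Fin r) A) p)) (frobenius (MvPolynomial (Fin r) A) p)
        Ideal.le_comap_map))) := by
  haveI : Algebra.Smooth A (MvPolynomial (Fin r) A) := ⟨inferInstance, inferInstance⟩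
  haveI : Algebra.Smooth k (MvPolynomial (Fin r) A) := Algebra.Smooth.comp k A _
  refine ⟨faithfullyFlat_quotientMap _ I (flat_frobenius p k _) fun P hP _ => ⟨P, hP, ?_⟩, ?_⟩
  · ext a
    exact hP.pow_mem_iff_mem p (Fact.out : p.Prime).pos
  · exact isPthRoot_of_isPullback
      (isPullback_SpecMap_of_isPushout _ _ _ _ (AlgSpDec.Slice.isPushout_quotient _ I)).flip
      (isPthRoot_frobenius p k (CommRingCat.of (MvPolynomial (Fin r) A)))

end Groth.Agent.Quiet5
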