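import Groth.Agent.Quiet5.Frob
import Groth.Agent.Hensel.LiftEtaleAlg
import Mathlib.RingTheory.RingHom.Etale

/-!
# Root towers: composition, étale descent and lifting
-/

universe u

open CategoryTheory Limits Polynomial Quiet FrobAlg TensorProduct

namespace Groth.Agent.Quiet5

theorem isRootTower_of_bijective_algebraMap (q : ℕ) (A B : Type u) [CommRing A] [CommRing B] [Algebra A B]
    (h : Function.Bijective (algebraMap A B)) : IsRootTower q 0 A B :=
  ⟨(AlgEquiv.ofBijective (Algebra.ofId A B) h).symm⟩

theorem bijective_algebraMap_of_isRootTower_zero (q : ℕ) (A B : Type u) [CommRing A] [CommRing B] [Algebra A B]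
    (h : IsRootTower q 0 A B) : Function.Bijective (algebraMap A B) := by
  obtain ⟨e⟩ := h
  rw [show ⇑(algebraMap A B) = e.symm from funext fun a => (e.symm.commutes a).symm]
  exact e.symm.bijective

theorem isRootTower_toAlgebra (q n : ℕ) (A B : Type u) [CommRing A] [CommRing B] [alg : Algebra A B] :
    (letI := (algebraMap A B).toAlgebra; IsRootTower q n A B) ↔ IsRootTower q n A B := by
  have e : (algebraMap A B).toAlgebra = alg := Algebra.algebra_ext _ _ fun _ => rfl
  rw [e]

/-- Towers compose. -/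
theorem isRootTower_trans (q : ℕ) : ∀ (n m : ℕ) (A B C : Type u) [CommRing A] [CommRing B] [CommRing C]
    [Algebra A B] [Algebra B C] [Algebra A C] [IsScalarTower A B C],
    IsRootTower q n A B → IsRootTower q m B C → IsRootTower q (n + m) A C
  | 0, m, A, B, C, _, _, _, _, _, _, _, h1, h2 => by
    rw [Nat.zero_add]
    let e : A ≃+* B := RingEquiv.ofBijective _ (bijective_algebraMap_of_isRootTower_zero q A B h1)
    have h3 := isRootTower_of_iso q m (A := CommRingCat.of B) (B := CommRingCat.of C)
      (A' := CommRingCat.of A) (B' := CommRingCat.of C) (CommRingCat.ofHom (algebraMap B C))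
      (CommRingCat.ofHom (algebraMap A C)) e.symm.toCommRingCatIso (Iso.refl _) ?_ ?_
    · exact (isRootTower_toAlgebra q m A C).1 h3
    · refine CommRingCat.hom_ext (RingHom.ext fun b => ?_)
      change algebraMap B C b = algebraMap A C (e.symm b)
      rw [IsScalarTower.algebraMap_apply A B C]
      exact congrArg _ (e.apply_symm_apply b).symm
    · exact (isRootTower_toAlgebra q m B C).2 h2
  | n + 1, m, A, B, C, _, _, _, _, _, _, _, h1, h2 => by
    obtain ⟨a, alg, htow, hn⟩ := h1
    letI algC : Algebra (RootRing q A a) C :=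
      ((algebraMap B C).comp (algebraMap (RootRing q A a) B)).toAlgebra
    haveI : IsScalarTower (RootRing q A a) B C := IsScalarTower.of_algebraMap_eq fun _ => rfl
    haveI : IsScalarTower A (RootRing q A a) C := IsScalarTower.of_algebraMap_eq fun x => by
      rw [RingHom.algebraMap_toAlgebra, RingHom.comp_apply, ← IsScalarTower.algebraMap_apply A (RootRing q A a) B,
        ← IsScalarTower.algebraMap_apply A B C]
    rw [Nat.succ_add]
    exact ⟨a, algC, inferInstance, isRootTower_trans q n m (RootRing q A a) B C hn h2⟩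

variable (p : ℕ) [hp : Fact p.Prime]

theorem charP_of_algebraMap {A B : Type u} [CommRing A] [CommRing B] [Nontrivial B] [Algebra A B]
    (h : (p : A) = 0) : CharP B p :=
  (CharP.charP_iff_prime_eq_zero hp.out).2 (by rw [← map_natCast (algebraMap A B), h, map_zero])

/-- Towers are injective and radicial. -/
theorem injective_and_exists_pow : ∀ (n : ℕ) (A B : Type u) [CommRing A] [CommRing B] [Algebra A B],
    (p : A) = 0 → IsRootTower p n A B →
    Function.Injective (algebraMap A B) ∧ ∀ b : B, ∃ a, algebraMap A B a = b ^ p ^ n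
  | 0, A, B, _, _, _, _, h => by
    have hb := bijective_algebraMap_of_isRootTower_zero p A B h
    exact ⟨hb.1, fun b => by rw [pow_zero, pow_one]; exact hb.2 b⟩
  | n + 1, A, B, _, _, _, h0, h => by
    obtain ⟨a, alg, htow, hn⟩ := h
    have h1 : (p : RootRing p A a) = 0 := by
      rw [← map_natCast (algebraMap A (RootRing p A a)), h0, map_zero]
    obtain ⟨hinj, hpow⟩ := injective_and_exists_pow n (RootRing p A a) B h1 hn
    refine ⟨?_, fun b => ?_⟩
    · rw [IsScalarTower.algebraMap_eq A (RootRing p A a) B, RingHom.coe_comp]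
      refine hinj.comp fun x y hxy => ?_
      have hp0 : 0 < p := hp.out.pos
      let d : Fin p := ⟨0, hp0⟩
      classical
      have hof : ∀ x : A, (∑ e, AdjoinRoot.of (X ^ p - C a) ((Pi.single d x : Fin p → A) e) *
          AdjoinRoot.root (X ^ p - C a) ^ (e : ℕ)) = AdjoinRoot.of _ x := fun x => by
        rw [Finset.sum_eq_single d (fun e _ he => by simp [Pi.single_eq_of_ne he]) (by simp)]
        simp [d]
      have h := (bijective_rootSum p hp0.ne' a).1 (a₁ := Pi.single d x) (a₂ := Pi.single d y)
        ((hof x).trans (hxy.trans (hof y).symm))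
      exact Pi.single_injective d h
    · obtain ⟨c, hc⟩ := hpow b
      obtain ⟨g, rfl⟩ := AdjoinRoot.mk_surjective c
      suffices h : ∃ x, algebraMap A (RootRing p A a) x = AdjoinRoot.mk _ g ^ p by
        obtain ⟨x, hx⟩ := h
        exact ⟨x, by rw [IsScalarTower.algebraMap_apply A (RootRing p A a) B, hx, map_pow, hc, ← pow_mul, ← pow_succ]⟩
      rcases subsingleton_or_nontrivial (RootRing p A a) with h' | h'
      · exact ⟨0, Subsingleton.elim _ _⟩
      haveI : CharP (RootRing p A a) p := (CharP.charP_iff_prime_eq_zero hp.out).2 h1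
      clear hc
      induction g using Polynomial.induction_on' with
      | add f g hf hg =>
        obtain ⟨x, hx⟩ := hf; obtain ⟨y, hy⟩ := hg
        exact ⟨x + y, by rw [map_add, map_add, add_pow_char, hx, hy]⟩
      | monomial k x =>
        refine ⟨x ^ p * a ^ k, ?_⟩
        rw [← C_mul_X_pow_eq_monomial, map_mul (AdjoinRoot.mk _), map_pow (AdjoinRoot.mk _), AdjoinRoot.mk_X,
          AdjoinRoot.mk_C, mul_pow, ← pow_mul, mul_comm k p, pow_mul, root_pow, map_mul, map_pow, map_pow]
        rfl

theorem isPushout_frobenius {B C : Type u} [CommRing B] [CommRing C] [CharP B p] [CharP C p] [Algebra B C]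
    [Algebra.Etale B C] :
    IsPushout (CommRingCat.ofHom (frobenius B p)) (CommRingCat.ofHom (algebraMap B C))
      (CommRingCat.ofHom (algebraMap B C)) (CommRingCat.ofHom (frobenius C p)) := by
  have he := (Groth.Agent.S3176.result p B C).mp inferInstance
  refine (CommRingCat.isPushout_tensorProduct B (Twist p B) C).of_iso (Iso.refl _)
    (toTwist p B).symm.toCommRingCatIso (Iso.refl _)
    ((Algebra.TensorProduct.comm B (Twist p B) C).toRingEquiv.trans
      (RingEquiv.ofBijective _ he)).toCommRingCatIso ?_ ?_ ?_ ?_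
  · refine CommRingCat.hom_ext (RingHom.ext fun b => ?_)
    change (toTwist p B).symm (algebraMap B (Twist p B) b) = frobenius B p b
    rw [algebraMap_twist, RingEquiv.symm_apply_apply, frobenius_def]
  · ext b; rfl
  · refine CommRingCat.hom_ext (RingHom.ext fun b => ?_)
    obtain ⟨b, rfl⟩ := (toTwist p B).surjective b
    change relFrob p B C (Algebra.TensorProduct.comm B (Twist p B) C (toTwist p B b ⊗ₜ[B] (1 : C))) =
      algebraMap B C ((toTwist p B).symm (toTwist p B b))
    rw [Algebra.TensorProduct.comm_tmul, PerfLib.relFrob_tmul, RingEquiv.symm_apply_apply, one_pow, one_mul]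
  · refine CommRingCat.hom_ext (RingHom.ext fun c => ?_)
    change relFrob p B C (Algebra.TensorProduct.comm B (Twist p B) C ((1 : Twist p B) ⊗ₜ[B] c)) = c ^ p
    rw [Algebra.TensorProduct.comm_tmul, PerfLib.relFrob_tmul, map_one, map_one, mul_one]

theorem isPushout_iterateFrobenius {B C : Type u} [CommRing B] [CommRing C] [CharP B p] [CharP C p]
    [Algebra B C] [Algebra.Etale B C] (n : ℕ) :
    IsPushout (CommRingCat.ofHom (iterateFrobenius B p n)) (CommRingCat.ofHom (algebraMap B C))
      (CommRingCat.ofHom (algebraMap B C)) (CommRingCat.ofHom (iterateFrobenius C p n)) := by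
  induction n with
  | zero =>
    rw [iterateFrobenius_zero, iterateFrobenius_zero, CommRingCat.ofHom_id, CommRingCat.ofHom_id]
    exact IsPushout.of_horiz_isIso ⟨by simp⟩
  | succ n ih =>
    rw [Nat.add_comm n 1, iterateFrobenius_add, iterateFrobenius_add, iterateFrobenius_one, iterateFrobenius_one,
      CommRingCat.ofHom_comp, CommRingCat.ofHom_comp]
    exact ih.paste_horiz (isPushout_frobenius p)

/-- An étale algebra over the top of a tower comes from the bottom. -/
theorem exists_descent {A B C : CommRingCat.{u}} (α : A ⟶ B) (φ : B ⟶ C) (hφ : φ.hom.Etale) (n : ℕ)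
    (hT : letI := α.hom.toAlgebra; IsRootTower p n A B) (h0 : (p : A) = 0) [Nontrivial C] :
    ∃ (C₀ : CommRingCat.{u}) (ψ : A ⟶ C₀) (θ : C₀ ⟶ C), ψ.hom.Etale ∧ IsPushout α ψ φ θ := by
  letI := α.hom.toAlgebra
  letI := φ.hom.toAlgebra
  haveI : Algebra.Etale B C := hφ
  haveI : Nontrivial B := φ.hom.domain_nontrivial
  haveI : Nontrivial A := α.hom.domain_nontrivial
  haveI : CharP B p := charP_of_algebraMap p (A := A) h0
  haveI : CharP C p := charP_of_algebraMap p (A := B) (CharP.cast_eq_zero B p)
  obtain ⟨hinj, hpow⟩ := injective_and_exists_pow p n A B h0 hT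
  choose σ hσ using hpow
  let s : B →+* A :=
    { toFun := σ
      map_one' := hinj (by rw [hσ, one_pow, map_one])
      map_mul' := fun x y => hinj (by rw [map_mul, hσ, hσ, hσ, mul_pow])
      map_zero' := hinj (by rw [hσ, map_zero, zero_pow (pow_ne_zero _ hp.out.ne_zero)])
      map_add' := fun x y => hinj (by rw [map_add, hσ, hσ, hσ, add_pow_char_pow]) }
  let S : B ⟶ A := CommRingCat.ofHom s
  have hSα : S ≫ α = CommRingCat.ofHom (iterateFrobenius B p n) := by
    refine CommRingCat.hom_ext (RingHom.ext fun b => ?_)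
    change algebraMap A B (σ b) = iterateFrobenius B p n b
    rw [hσ, iterateFrobenius_def]
  have big : IsPushout (CommRingCat.ofHom (iterateFrobenius B p n)) φ φ (CommRingCat.ofHom (iterateFrobenius C p n)) :=
    isPushout_iterateFrobenius p n
  rw [← hSα] at big
  have small := IsPushout.of_hasPushout S φ
  let θ := pushout.desc (α ≫ φ) (CommRingCat.ofHom (iterateFrobenius C p n)) (by rw [← Category.assoc]; exact big.w)
  refine ⟨pushout S φ, pushout.inl S φ, θ, ?_, ?_⟩
  · haveI := (RingHom.isStableUnderCobaseChange_toMorphismProperty_iff (P := fun f => RingHom.Etale f)).2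
      RingHom.Etale.isStableUnderBaseChange
    exact (MorphismProperty.of_isPushout (P := RingHom.toMorphismProperty fun f => RingHom.Etale f) small hφ)
  · refine IsPushout.of_left ?_ (pushout.inl_desc _ _ _).symm small
    rw [pushout.inr_desc]
    exact big

/-- The square of adjoining a root. -/
theorem isPushout_rootRing (q : ℕ) {A A' : CommRingCat.{u}} (g : A ⟶ A') (a : A) :
    ∃ g1 : CommRingCat.of (RootRing q A a) ⟶ CommRingCat.of (RootRing q A' (g a)),
      IsPushout (CommRingCat.ofHom (AdjoinRoot.of (X ^ q - C a))) g g1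
        (CommRingCat.ofHom (AdjoinRoot.of (X ^ q - C (g a)))) ∧ (Function.Surjective g → Function.Surjective g1) := by
  let i : A ⟶ CommRingCat.of (RootRing q A a) := CommRingCat.ofHom (AdjoinRoot.of _)
  let i' : A' ⟶ CommRingCat.of (RootRing q A' (g a)) := CommRingCat.ofHom (AdjoinRoot.of _)
  let g1 : CommRingCat.of (RootRing q A a) ⟶ CommRingCat.of (RootRing q A' (g a)) :=
    CommRingCat.ofHom (AdjoinRoot.lift (g ≫ i').hom (AdjoinRoot.root _) (by
      rw [eval₂_sub, eval₂_pow, eval₂_X, eval₂_C, root_pow]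
      exact sub_self _))
  refine ⟨g1, ⟨⟨?_⟩, ⟨PushoutCocone.IsColimit.mk _ (fun s => CommRingCat.ofHom (AdjoinRoot.lift s.inr.hom
    (s.inl.hom (AdjoinRoot.root _)) ?_)) (fun s => ?_) (fun s => ?_) (fun s m hl hr => ?_)⟩⟩, fun hg c => ?_⟩
  · refine CommRingCat.hom_ext (RingHom.ext fun x => ?_)
    simp [g1, i']
  · rw [eval₂_sub, eval₂_pow, eval₂_X, eval₂_C, ← map_pow, root_pow]
    exact sub_eq_zero.2 congr($(s.condition).hom a)
  · refine CommRingCat.hom_ext (AdjoinRoot.ringHom_ext (RingHom.ext fun x => ?_) ?_)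
    · simp [g1, i']
      exact congr($(s.condition).hom x).symm
    · simp [g1]
  · refine CommRingCat.hom_ext (RingHom.ext fun x => ?_)
    simp
  · refine CommRingCat.hom_ext (AdjoinRoot.ringHom_ext (RingHom.ext fun x => ?_) ?_)
    · simp
      exact congr($(hr).hom x)
    · have h2 := congr($(hl).hom (AdjoinRoot.root _))
      simp [g1] at h2 ⊢
      exact h2
  · obtain ⟨P, rfl⟩ := AdjoinRoot.mk_surjective c
    obtain ⟨Q, rfl⟩ := Polynomial.map_surjective g.hom hg P
    refine ⟨AdjoinRoot.mk _ Q, ?_⟩
    induction Q using Polynomial.induction_on' with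
    | add f h hf hh => rw [map_add, map_add, hf, hh, Polynomial.map_add, map_add]
    | monomial k x =>
      rw [Polynomial.map_monomial, ← C_mul_X_pow_eq_monomial, ← C_mul_X_pow_eq_monomial]
      simp only [map_mul, map_pow, AdjoinRoot.mk_X, AdjoinRoot.mk_C]
      simp [g1, i']

/-- Towers lift along surjections. -/
theorem exists_lift_tower (q : ℕ) : ∀ (n : ℕ) {R' Q D : CommRingCat.{u}} (π : R' ⟶ Q) (g : Q ⟶ D),
    Function.Surjective π → (letI := g.hom.toAlgebra; IsRootTower q n Q D) →
    ∃ (B' : CommRingCat.{u}) (γ : R' ⟶ B') (π' : B' ⟶ D),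
      (letI := γ.hom.toAlgebra; IsRootTower q n R' B') ∧ IsPushout γ π π' g
  | 0, R', Q, D, π, g, hπ, hT => by
    letI := g.hom.toAlgebra
    haveI : IsIso g := (ConcreteCategory.isIso_iff_bijective g).2 (bijective_algebraMap_of_isRootTower_zero q Q D hT)
    refine ⟨R', 𝟙 _, π ≫ g, ?_, IsPushout.of_horiz_isIso ⟨by simp⟩⟩
    exact @isRootTower_of_bijective_algebraMap q R' R' _ _ (RingHom.id R').toAlgebra Function.bijective_id
  | n + 1, R', Q, D, π, g, hπ, hT => by
    letI := g.hom.toAlgebra
    obtain ⟨a, alg, htow, hn⟩ := hT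
    obtain ⟨a', rfl⟩ := hπ a
    obtain ⟨π₁, sq, hsurj⟩ := isPushout_rootRing q π a'
    let j : CommRingCat.of (RootRing q Q (π a')) ⟶ D := CommRingCat.ofHom (algebraMap _ D)
    have hj : (letI := j.hom.toAlgebra; IsRootTower q n (RootRing q Q (π a')) D) := by
      have e : alg = j.hom.toAlgebra := Algebra.algebra_ext _ _ fun _ => rfl
      rw [← e]; exact hn
    obtain ⟨B', γ₁, π', hT', sq'⟩ := exists_lift_tower q n π₁ j (hsurj hπ) hj
    refine ⟨B', CommRingCat.ofHom (AdjoinRoot.of _) ≫ γ₁, π', ?_, ?_⟩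
    · letI := (CommRingCat.ofHom (AdjoinRoot.of (X ^ q - C a')) ≫ γ₁).hom.toAlgebra
      refine ⟨a', γ₁.hom.toAlgebra, ?_, hT'⟩
      letI := γ₁.hom.toAlgebra
      exact IsScalarTower.of_algebraMap_eq fun _ => rfl
    · have hg : CommRingCat.ofHom (AdjoinRoot.of (X ^ q - C (π a'))) ≫ j = g :=
        CommRingCat.hom_ext (RingHom.ext fun x => (IsScalarTower.algebraMap_apply Q _ D x).symm)
      rw [← hg]
      exact sq.paste_horiz sq'

/-- An étale algebra lifts along a surjection. -/
theorem exists_etale_lift {R S C : CommRingCat.{u}} (i : R ⟶ S) (hi : Function.Surjective i) (e : S ⟶ C)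
    (he : e.hom.Etale) :
    ∃ (R' : CommRingCat.{u}) (ψ : R ⟶ R') (π : R' ⟶ C), ψ.hom.Etale ∧ IsPushout i ψ e π ∧ Function.Surjective π := by
  letI := i.hom.toAlgebra
  letI := e.hom.toAlgebra
  haveI : Algebra.Etale S C := he
  obtain ⟨R', _, _, hR', ⟨ε⟩⟩ := Hensel.exists_etale_algebra_lift (A := R) (T := S) (C := C) hi
  refine ⟨CommRingCat.of R', CommRingCat.ofHom (algebraMap R R'),
    CommRingCat.ofHom (ε.toRingHom.comp Algebra.TensorProduct.includeRight.toRingHom), ?_, ?_, ?_⟩
  · exact RingHom.etale_algebraMap.2 hR'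
  · refine (CommRingCat.isPushout_tensorProduct R S R').of_iso (Iso.refl _) (Iso.refl _) (Iso.refl _)
      ε.toRingEquiv.toCommRingCatIso ?_ ?_ ?_ ?_
    · ext; rfl
    · ext; rfl
    · refine CommRingCat.hom_ext (RingHom.ext fun s => ?_)
      exact ε.commutes s
    · ext; rfl
  · intro c
    obtain ⟨z, rfl⟩ := ε.surjective c
    induction z using TensorProduct.induction_on with
    | zero => exact ⟨0, by simp⟩
    | add x y hx hy =>
      obtain ⟨a, ha⟩ := hx; obtain ⟨b, hb⟩ := hy
      exact ⟨a + b, by rw [map_add, map_add, ha, hb]⟩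
    | tmul s r =>
      obtain ⟨r0, rfl⟩ := hi s
      refine ⟨algebraMap R R' r0 * r, ?_⟩
      change ε ((1 : S) ⊗ₜ[R] (algebraMap R R' r0 * r)) = ε (algebraMap R S r0 ⊗ₜ[R] r)
      rw [← Algebra.smul_def, ← TensorProduct.smul_tmul, Algebra.smul_def, mul_one]

end Groth.Agent.Quiet5
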